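import Cfsg.Agent.Lib.KnownA.Octonion.Involution
import Mathlib

/-!
The centralizer of the standard involution of the octonion automorphisms, as pairs of invertible two by
two matrices with equal determinants.
-/

set_option autoImplicit false

namespace Cfsg.Agent.KnownA.Octonion

open Cfsg.Lie
open Matrix

variable {F : Type*} [Field F]

/-- The octonion of a pair of quaternions. -/
def mk (A B : Matrix (Fin 2) (Fin 2) F) : Fin 8 → F :=
  ![A 0 0, A 0 1, B 1 1, B 1 0, A 1 0, B 0 0, -(B 0 1), A 1 1]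

/-- The first quaternion of an octonion. -/
def prA (w : Fin 8 → F) : Matrix (Fin 2) (Fin 2) F := !![w 0, w 1; w 4, w 7]

/-- The second quaternion of an octonion. -/
def prB (w : Fin 8 → F) : Matrix (Fin 2) (Fin 2) F := !![w 5, -w 6; w 3, w 2]

theorem mk_pr (w : Fin 8 → F) : mk (prA w) (prB w) = w := by
  funext i; fin_cases i <;> simp [mk, prA, prB]

theorem prA_mk (A B : Matrix (Fin 2) (Fin 2) F) : prA (mk A B) = A := by
  ext i j; fin_cases i <;> fin_cases j <;> simp [mk, prA]

theorem prB_mk (A B : Matrix (Fin 2) (Fin 2) F) : prB (mk A B) = B := by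
  ext i j; fin_cases i <;> fin_cases j <;> simp [mk, prB]

theorem mk_add (A B C D : Matrix (Fin 2) (Fin 2) F) : mk (A + C) (B + D) = mk A B + mk C D := by
  funext i; fin_cases i <;> simp [mk, add_comm]

theorem mk_smul (c : F) (A B : Matrix (Fin 2) (Fin 2) F) : mk (c • A) (c • B) = c • mk A B := by
  funext i; fin_cases i <;> simp [mk]

theorem prA_add (v w : Fin 8 → F) : prA (v + w) = prA v + prA w := by
  ext i j; fin_cases i <;> fin_cases j <;> simp [prA]

theorem prB_add (v w : Fin 8 → F) : prB (v + w) = prB v + prB w := by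
  ext i j; fin_cases i <;> fin_cases j <;> simp [prB, add_comm]

theorem prA_smul (c : F) (v : Fin 8 → F) : prA (c • v) = c • prA v := by
  ext i j; fin_cases i <;> fin_cases j <;> simp [prA]

theorem prB_smul (c : F) (v : Fin 8 → F) : prB (c • v) = c • prB v := by
  ext i j; fin_cases i <;> fin_cases j <;> simp [prB]

theorem mu_mk (A B C D : Matrix (Fin 2) (Fin 2) F) :
    mu (mk A B) (mk C D) = mk (A * C + D * adjugate B) (adjugate A * D + C * B) := by
  funext i
  fin_cases i <;>
    simp [mu_apply, mk, Matrix.mul_apply, Matrix.vecMul, dotProduct, Fin.sum_univ_two, Matrix.adjugate_fin_two] <;> ring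

theorem e1_eq_mk : e1 F = mk (1 : Matrix (Fin 2) (Fin 2) F) 0 := by
  funext i; fin_cases i <;> simp [mk, e1]

theorem nm_mk (A B : Matrix (Fin 2) (Fin 2) F) : nm (mk A B) = det A - det B := by
  simp [nm, mk, Matrix.det_fin_two]; ring

theorem adjugate_units (g : GL (Fin 2) F) :
    adjugate (g : Matrix (Fin 2) (Fin 2) F) = det (g : Matrix (Fin 2) (Fin 2) F) • ((g⁻¹ : GL (Fin 2) F) : Matrix (Fin 2) (Fin 2) F) := by
  have h := congrArg (· * ((g⁻¹ : GL (Fin 2) F) : Matrix (Fin 2) (Fin 2) F))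
    (Matrix.adjugate_mul (g : Matrix (Fin 2) (Fin 2) F))
  simpa [mul_assoc] using h

/-- Conjugation by a pair. -/
def pairAct (p : GL (Fin 2) F × GL (Fin 2) F) (w : Fin 8 → F) : Fin 8 → F :=
  mk ((p.1 : Matrix (Fin 2) (Fin 2) F) * prA w * ((p.1⁻¹ : GL (Fin 2) F) : Matrix (Fin 2) (Fin 2) F))
    ((p.1 : Matrix (Fin 2) (Fin 2) F) * prB w * ((p.2⁻¹ : GL (Fin 2) F) : Matrix (Fin 2) (Fin 2) F))

theorem pairAct_mul (p q : GL (Fin 2) F × GL (Fin 2) F) (w : Fin 8 → F) :
    pairAct (p * q) w = pairAct p (pairAct q w) := by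
  simp only [pairAct, prA_mk, prB_mk, Prod.fst_mul, Prod.snd_mul, _root_.mul_inv_rev, Units.val_mul, mul_assoc]

theorem pairAct_one (w : Fin 8 → F) : pairAct 1 w = w := by simp [pairAct, mk_pr]

/-- Conjugation by a pair, linear. -/
def pairEquiv (p : GL (Fin 2) F × GL (Fin 2) F) : (Fin 8 → F) ≃ₗ[F] (Fin 8 → F) where
  toFun := pairAct p
  invFun := pairAct p⁻¹
  map_add' v w := by simp only [pairAct, prA_add, prB_add, mul_add, add_mul, mk_add]
  map_smul' c v := by
    simp only [pairAct, prA_smul, prB_smul, Matrix.mul_smul, Matrix.smul_mul, mk_smul, RingHom.id_apply]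
  left_inv w := by rw [← pairAct_mul, inv_mul_cancel, pairAct_one]
  right_inv w := by rw [← pairAct_mul, mul_inv_cancel, pairAct_one]

/-- Pairs with equal determinants. -/
def eqDet (F : Type*) [Field F] : Subgroup (GL (Fin 2) F × GL (Fin 2) F) :=
  MonoidHom.ker ((GeneralLinearGroup.det.comp (MonoidHom.fst (GL (Fin 2) F) (GL (Fin 2) F))) /
    (GeneralLinearGroup.det.comp (MonoidHom.snd (GL (Fin 2) F) (GL (Fin 2) F))))

theorem mem_eqDet {p : GL (Fin 2) F × GL (Fin 2) F} :
    p ∈ eqDet F ↔ det (p.1 : Matrix (Fin 2) (Fin 2) F) = det (p.2 : Matrix (Fin 2) (Fin 2) F) := by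
  rw [eqDet, MonoidHom.mem_ker, MonoidHom.div_apply, div_eq_one, Units.ext_iff]
  rfl

theorem pairAct_mu {p : GL (Fin 2) F × GL (Fin 2) F}
    (hp : det (p.1 : Matrix (Fin 2) (Fin 2) F) = det (p.2 : Matrix (Fin 2) (Fin 2) F)) (x y : Fin 8 → F) :
    pairAct p (mu x y) = mu (pairAct p x) (pairAct p y) := by
  conv_lhs => rw [← mk_pr x, ← mk_pr y, mu_mk]
  simp only [pairAct, prA_mk, prB_mk, mu_mk, Matrix.adjugate_mul_distrib, adjugate_units, inv_inv,
    Matrix.smul_mul, Matrix.mul_smul, smul_smul]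
  have hd : ∀ g : GL (Fin 2) F, det ((g⁻¹ : GL (Fin 2) F) : Matrix (Fin 2) (Fin 2) F) *
      det (g : Matrix (Fin 2) (Fin 2) F) = 1 := fun g => by
    rw [← Matrix.det_mul, ← Units.val_mul, inv_mul_cancel, Units.val_one, Matrix.det_one]
  congr 1
  · simp only [mul_add, add_mul, mul_assoc, Units.inv_mul_cancel_left]
    rw [show det (p.1 : Matrix (Fin 2) (Fin 2) F) *
      det (((p.2 : GL (Fin 2) F)⁻¹ : GL (Fin 2) F) : Matrix (Fin 2) (Fin 2) F) = 1 by
        rw [hp, mul_comm]; exact hd _, one_smul]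
  · simp only [mul_add, add_mul, mul_assoc, Units.inv_mul_cancel_left]
    simp [right_ne_zero_of_mul_eq_one (hd p.1)]

/-- The map from pairs with equal determinants. -/
noncomputable def psi : eqDet F →* G2 F where
  toFun p := autOfLin (pairEquiv p.1) (pairAct_mu (mem_eqDet.1 p.2))
  map_one' := act_ext fun w => by
    rw [act_one]; exact (act_autOfLin (pairEquiv _) _ w).trans (pairAct_one w)
  map_mul' p q := act_ext fun w => by
    rw [act_mul]
    refine (act_autOfLin (pairEquiv _) _ w).trans ((pairAct_mul _ _ w).trans ?_)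
    refine ((act_autOfLin (pairEquiv _) _ _).trans ?_).symm
    exact congrArg _ (act_autOfLin (pairEquiv _) _ w)

theorem act_psi (p : eqDet F) (w : Fin 8 → F) : act (psi p) w = pairAct p.1 w :=
  act_autOfLin (pairEquiv p.1) (pairAct_mu (mem_eqDet.1 p.2)) w

theorem psi_scalar (p : eqDet F) {c : Fˣ} (h1 : (p.1.1 : Matrix (Fin 2) (Fin 2) F) = (c : F) • 1)
    (h2 : p.1.2 = p.1.1) : psi p = 1 := by
  refine act_ext fun w => ?_
  rw [act_psi, act_one, pairAct, h2]
  have : ∀ X : Matrix (Fin 2) (Fin 2) F, (p.1.1 : Matrix (Fin 2) (Fin 2) F) * X *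
      ((p.1.1⁻¹ : GL (Fin 2) F) : Matrix (Fin 2) (Fin 2) F) = X := fun X => by
    have hc : (p.1.1 : Matrix (Fin 2) (Fin 2) F) * X = X * (p.1.1 : Matrix (Fin 2) (Fin 2) F) := by
      rw [h1]; simp
    rw [hc, mul_assoc, ← Units.val_mul, mul_inv_cancel, Units.val_one, mul_one]
  rw [this, this, mk_pr]

variable (h2 : (2 : F) ≠ 0)

theorem act_triAut_std (T : Tri F) : act (triAut h2 T) (std F).x = T.x ∧
    act (triAut h2 T) (std F).y = T.y ∧ act (triAut h2 T) (std F).v = T.v := by
  have key : ∀ U : Tri F, (emb2 h2 U).f (((1, -1), (0, 0)), ((0, 0), (0, 0))) = U.x ∧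
      (emb2 h2 U).f (((0, 0), (1, 1)), ((0, 0), (0, 0))) = U.y ∧
      (emb2 h2 U).f (((0, 0), (0, 0)), ((1, 1), (0, 0))) = U.v := by
    intro U
    refine ⟨?_, ?_, ?_⟩ <;>
      simp [emb2_apply, emb1_apply, mu_zero_right, mu_one_right,
        show ((1 : F) + 1) / 2 = 1 by field_simp; norm_num] <;>
      simp [show (1 : F) + 1 = 2 by norm_num, h2]
  obtain ⟨a, b, c⟩ := key T
  obtain ⟨a', b', c'⟩ := key (std F)
  refine ⟨?_, ?_, ?_⟩
  · rw [← a', act_triAut, a]
  · rw [← b', act_triAut, b]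
  · rw [← c', act_triAut, c]

theorem stdx_eq : (std F).x = mk !![1, 0; 0, -1] 0 := by
  funext i; fin_cases i <;> simp [mk, std]

theorem stdy_eq : (std F).y = mk !![0, 1; 1, 0] 0 := by
  funext i; fin_cases i <;> simp [mk, std]

theorem stdv_eq : (std F).v = mk 0 (1 : Matrix (Fin 2) (Fin 2) F) := by
  funext i; fin_cases i <;> simp [mk, std]

theorem act_t0 (w : Fin 8 → F) : act (t0 h2) w = mk (prA w) (-prB w) := by
  let p : eqDet F := ⟨(1, -1), mem_eqDet.2 (by simp [Matrix.det_neg])⟩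
  have hp : ∀ w, act (psi p) w = mk (prA w) (-prB w) := fun w => by
    rw [act_psi, pairAct]; simp [p]
  obtain ⟨a, b, c⟩ := act_triAut_std h2 (std F).flip
  have : t0 h2 = psi p := by
    refine act_inj_std h2 (a.trans ?_) (b.trans ?_) (c.trans ?_)
    · rw [hp, stdx_eq, prA_mk, prB_mk, neg_zero, ← stdx_eq]; rfl
    · rw [hp, stdy_eq, prA_mk, prB_mk, neg_zero, ← stdy_eq]; rfl
    · show -(std F).v = _
      rw [hp, stdv_eq, prA_mk, prB_mk]
      funext i; fin_cases i <;> simp [mk]
  rw [this, hp]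

theorem t0_ne_one : t0 h2 ≠ (1 : G2 F) := by
  intro h
  have e := act_t0 h2 (std F).v
  rw [h, act_one] at e
  have e2 := congrFun e 2
  simp [std, mk, prA, prB] at e2
  exact h2 (by linear_combination e2)

theorem mem_range_psi {c : G2 F} (hc : t0 h2 * c = c * t0 h2) : c ∈ (psi (F := F)).range := by
  have hA : ∀ X, act c (mk X 0) = mk (prA (act c (mk X 0))) 0 := by
    intro X
    have h := congrArg (act · (mk X 0)) hc
    simp only [act_mul, act_t0, prA_mk, prB_mk, neg_zero] at h
    have hb := congrArg prB h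
    rw [prB_mk] at hb
    have : prB (act c (mk X 0)) = 0 := by
      have h' : (2 : F) • prB (act c (mk X 0)) = 0 := by
        rw [two_smul]; nth_rw 1 [← hb]; exact neg_add_cancel _
      exact (smul_eq_zero.1 h').resolve_left h2
    conv_lhs => rw [← mk_pr (act c (mk X 0)), this]
  set al : Matrix (Fin 2) (Fin 2) F → Matrix (Fin 2) (Fin 2) F := fun X => prA (act c (mk X 0)) with hal
  have hmul : ∀ X Y, al (X * Y) = al X * al Y := by
    intro X Y
    have h := congrArg prA (act_mu c (mk X 0) (mk Y 0))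
    rw [hA X, hA Y, mu_mk, mu_mk] at h
    simpa [prA_mk, hal] using h
  have hone : al 1 = 1 := by simp only [hal, ← e1_eq_mk, act_e1]; rw [e1_eq_mk, prA_mk]
  have hadd : ∀ X Y, al (X + Y) = al X + al Y := fun X Y => by
    simp only [hal]; rw [← prA_add, ← act_add, ← mk_add, add_zero]
  have hsmul : ∀ (a : F) X, al (a • X) = a • al X := fun a X => by
    simp only [hal]; rw [← prA_smul, ← act_smul, ← mk_smul, smul_zero]
  have hinj : ∀ X, al X = 0 → X = 0 := fun X h => by
    have h0 : act c (mk X 0) = 0 := by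
      rw [hA X, show prA (act c (mk X 0)) = 0 from h]; funext i; fin_cases i <;> simp [mk]
    have hc0 : act c (0 : Fin 8 → F) = 0 := by rw [← zero_smul F (e1 F), act_smul, act_e1]
    rw [← prA_mk X 0, act_injective c (h0.trans hc0.symm)]
    ext i j; fin_cases i <;> fin_cases j <;> simp [prA]
  set E11 : Matrix (Fin 2) (Fin 2) F := !![1, 0; 0, 0] with hE11
  set Y0 : Matrix (Fin 2) (Fin 2) F := !![0, 1; 1, 0] with hY0
  have hEE : al E11 * al E11 = al E11 := by
    rw [← hmul]; congr 1; ext i j; fin_cases i <;> fin_cases j <;> simp [hE11, Matrix.mul_apply]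
  have hYY : al Y0 * al Y0 = 1 := by
    rw [← hmul, ← hone]; congr 1; ext i j; fin_cases i <;> fin_cases j <;> simp [hY0, Matrix.mul_apply]
  have hEYE : al E11 * al Y0 * al E11 = 0 := by
    rw [← hmul, ← hmul]
    have : E11 * Y0 * E11 = 0 := by
      ext i j; fin_cases i <;> fin_cases j <;> simp [hE11, hY0, Matrix.mul_apply]
    rw [this, ← zero_smul F (1 : Matrix (Fin 2) (Fin 2) F), hsmul, zero_smul, zero_smul]
  obtain ⟨j, hj⟩ : ∃ j, (fun i => al E11 i j) ≠ 0 := by
    by_contra! h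
    have h0 : al E11 = 0 := Matrix.ext fun i j => congrFun (h j) i
    simpa [hE11] using congrFun (congrFun (hinj _ h0) 0) 0
  set p : Fin 2 → F := fun i => al E11 i j with hpdef
  have hEp : al E11 *ᵥ p = p := by
    funext i
    have := congrFun (congrFun hEE i) j
    simpa [Matrix.mulVec, dotProduct, Matrix.mul_apply] using this
  set q : Fin 2 → F := al Y0 *ᵥ p with hq
  have hYq : al Y0 *ᵥ q = p := by rw [hq, Matrix.mulVec_mulVec, hYY, Matrix.one_mulVec]
  have hEq : al E11 *ᵥ q = 0 := by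
    rw [hq, ← hEp, Matrix.mulVec_mulVec, Matrix.mulVec_mulVec, hEYE, Matrix.zero_mulVec]
  set M : Matrix (Fin 2) (Fin 2) F := !![p 0, q 0; p 1, q 1] with hM
  have hcol : ∀ X : Matrix (Fin 2) (Fin 2) F, X * M =
      !![(X *ᵥ p) 0, (X *ᵥ q) 0; (X *ᵥ p) 1, (X *ᵥ q) 1] := fun X => by
    ext i k; fin_cases i <;> fin_cases k <;> simp [hM, Matrix.mul_apply, Matrix.mulVec, dotProduct, Fin.sum_univ_two]
  have hdet : IsUnit M.det := by
    rw [isUnit_iff_ne_zero]
    intro h
    obtain ⟨v, hv, hMv⟩ := Matrix.exists_mulVec_eq_zero_iff.2 h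
    have e : v 0 • p + v 1 • q = 0 := by
      rw [← hMv]; funext i; fin_cases i <;> simp [hM, Matrix.mulVec, dotProduct, Fin.sum_univ_two, mul_comm]
    have e2 := congrArg (al E11 *ᵥ ·) e
    simp [Matrix.mulVec_add, Matrix.mulVec_smul, hEp, hEq] at e2
    have h0 : v 0 = 0 := e2.resolve_right hj
    rw [h0, zero_smul, zero_add, smul_eq_zero] at e
    have hq0 : q ≠ 0 := fun h => hj (by rw [← hYq, h, Matrix.mulVec_zero])
    exact hv (funext fun i => by fin_cases i <;> simp [h0, e.resolve_right hq0])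
  set g : GL (Fin 2) F := Matrix.GeneralLinearGroup.mk'' M hdet with hg
  have hgval : (g : Matrix (Fin 2) (Fin 2) F) = M := rfl
  have hE : al E11 * M = M * E11 := by
    rw [hcol, hEp, hEq]; ext i k; fin_cases i <;> fin_cases k <;> simp [hM, hE11, Matrix.mul_apply]
  have hY : al Y0 * M = M * Y0 := by
    rw [hcol, ← hq, hYq]; ext i k; fin_cases i <;> fin_cases k <;> simp [hM, hY0, Matrix.mul_apply]
  -- the image of the odd generator
  have hv : prA (act c (std F).v) = 0 := by
    have h := congrArg (act · (std F).v) hc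
    simp only [act_mul, act_t0, stdv_eq, prA_mk, prB_mk] at h
    have e : mk (0 : Matrix (Fin 2) (Fin 2) F) (-1) = -mk 0 1 := by funext i; fin_cases i <;> simp [mk]
    rw [e, act_neg] at h
    have hb := congrArg prA h
    rw [prA_mk, ← neg_one_smul F (act c _), prA_smul, neg_one_smul] at hb
    have h' : (2 : F) • prA (act c (mk (0 : Matrix (Fin 2) (Fin 2) F) 1)) = 0 := by
      rw [two_smul]; nth_rw 1 [hb]; exact neg_add_cancel _
    rw [stdv_eq]
    exact (smul_eq_zero.1 h').resolve_left h2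
  set S : Matrix (Fin 2) (Fin 2) F := prB (act c (std F).v) with hS
  have hcv : act c (std F).v = mk 0 S := by conv_lhs => rw [← mk_pr (act c (std F).v), hv]
  have hSdet : S.det = 1 := by
    have := (act_invariants c (std F).v).2
    rw [hcv, nm_mk, (std F).vn, Matrix.det_zero] at this
    linear_combination -this
  have hSu : IsUnit S.det := hSdet ▸ isUnit_one
  set Su : GL (Fin 2) F := Matrix.GeneralLinearGroup.mk'' S hSu with hSu'
  have hSval : (Su : Matrix (Fin 2) (Fin 2) F) = S := rfl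
  have hk : (g, Su⁻¹ * g) ∈ eqDet F := by
    rw [mem_eqDet]
    show M.det = ((Su⁻¹ * g : GL (Fin 2) F) : Matrix (Fin 2) (Fin 2) F).det
    have : ((Su⁻¹ : GL (Fin 2) F) : Matrix (Fin 2) (Fin 2) F).det * S.det = 1 := by
      rw [← hSval, ← Matrix.det_mul, ← Units.val_mul, inv_mul_cancel, Units.val_one, Matrix.det_one]
    rw [hSdet, mul_one] at this
    rw [Units.val_mul, Matrix.det_mul, this, one_mul, hgval]
  have conj : ∀ X, al X * M = M * X →
      (g : Matrix (Fin 2) (Fin 2) F) * X * ((g⁻¹ : GL (Fin 2) F) : Matrix (Fin 2) (Fin 2) F) = al X := by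
    intro X h
    rw [hgval, ← h, ← hgval, mul_assoc, ← Units.val_mul, mul_inv_cancel, Units.val_one, mul_one]
  have hx : al !![1, 0; 0, -1] * M = M * !![1, 0; 0, -1] := by
    have e : (!![1, 0; 0, -1] : Matrix (Fin 2) (Fin 2) F) = (2 : F) • E11 + (-1 : F) • 1 := by
      ext i k; fin_cases i <;> fin_cases k <;> simp [hE11] <;> norm_num
    rw [e, hadd, hsmul, hsmul, hone, add_mul, mul_add, Matrix.smul_mul, Matrix.smul_mul, hE,
      Matrix.mul_smul, Matrix.mul_smul, one_mul, mul_one]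
  refine ⟨⟨_, hk⟩, act_inj_std h2 ?_ ?_ ?_⟩
  · rw [act_psi, stdx_eq, pairAct, prA_mk, prB_mk, conj _ hx, mul_zero, zero_mul]
    exact (hA _).symm
  · rw [act_psi, stdy_eq, pairAct, prA_mk, prB_mk, conj _ hY, mul_zero, zero_mul]
    exact (hA _).symm
  · rw [hcv, act_psi, stdv_eq, pairAct, prA_mk, prB_mk, mul_zero, zero_mul, mul_one,
      _root_.mul_inv_rev, inv_inv, ← Units.val_mul, mul_inv_cancel_left, hSval]

end Cfsg.Agent.KnownA.Octonion
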