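import Cfsg.Agent.Lib.KnownA.Octonion.Identities
import Mathlib

/-!
Cayley–Dickson doubling inside Zorn's algebra, and the transitivity of the automorphisms on triples.
-/

set_option autoImplicit false

namespace Cfsg.Agent.KnownA.Octonion

open Cfsg.Lie
open scoped Matrix

variable {F : Type*} [Field F]

theorem bf_zero_left (y : Fin 8 → F) : bf 0 y = 0 := by simp [bf]

theorem eq_zero_of_bf {x : Fin 8 → F} (h : ∀ y, bf x y = 0) : x = 0 := by
  have h0 := h (Pi.single 0 1); have h1 := h (Pi.single 1 1); have h2 := h (Pi.single 2 1)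
  have h3 := h (Pi.single 3 1); have h4 := h (Pi.single 4 1); have h5 := h (Pi.single 5 1)
  have h6 := h (Pi.single 6 1); have h7 := h (Pi.single 7 1)
  simp [bf, Pi.single_apply] at h0 h1 h2 h3 h4 h5 h6 h7
  funext i; fin_cases i <;> simp_all

/-- An embedded composition algebra. -/
structure Emb (P : Type*) [AddCommGroup P] [Module F P] (m : P → P → P) (b : P → P) where
  f : P →ₗ[F] (Fin 8 → F)
  map_mul : ∀ a c, mu (f a) (f c) = f (m a c)
  map_bar : ∀ a, bar (f a) = f (b a)
  nondeg : ∀ a, (∀ c, bf (f a) (f c) = 0) → a = 0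

variable {P : Type*} [AddCommGroup P] [Module F P] {m : P → P → P} {b : P → P}

theorem Emb.injective (E : Emb (F := F) P m b) : Function.Injective E.f := by
  rw [injective_iff_map_eq_zero]
  intro a ha
  exact E.nondeg a fun c => by rw [ha, bf_zero_left]

/-- The doubled product. -/
def dblMul (m : P → P → P) (b : P → P) (p q : P × P) : P × P :=
  (m p.1 q.1 + m q.2 (b p.2), m (b p.1) q.2 + m q.1 p.2)

/-- The doubled conjugation. -/
def dblBar (b : P → P) (p : P × P) : P × P := (b p.1, -p.2)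

theorem Emb.swap (E : Emb (F := F) P m b) {v : Fin 8 → F} (hb : bar v = -v)
    (hv : ∀ a, bf v (E.f a) = 0) (a : P) (w : Fin 8 → F) :
    mu (E.f a) (mu v w) = mu v (mu (bar (E.f a)) w) := by
  have h := left_alt_lin (E.f a) v w
  rw [hb, mu_neg_left, mu_neg_right, bf_comm, hv, zero_smul, neg_add_eq_zero] at h
  exact h

theorem Emb.v_mul (E : Emb (F := F) P m b) {v : Fin 8 → F} (hb : bar v = -v)
    (hv : ∀ a, bf v (E.f a) = 0) (a : P) :
    mu v (E.f a) = mu (bar (E.f a)) v := by
  have h := E.swap hb hv (b a) (e1 F)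
  rw [mu_one_right, mu_one_right, ← E.map_bar, bar_bar] at h
  exact h.symm

theorem Emb.v_mul_mul (E : Emb (F := F) P m b) {v : Fin 8 → F} (hb : bar v = -v)
    (hv : ∀ a, bf v (E.f a) = 0) (a c : P) :
    mu (mu v (E.f a)) (E.f c) = mu v (mu (E.f c) (E.f a)) := by
  have h := right_alt_lin (E.f c) (-v) (bar (E.f a))
  have hb' : bar (-v) = v := by rw [← hb, bar_bar]
  have h0 : bf (E.f c) (-v) = 0 := by
    rw [← neg_one_smul F v, bf_smul_right, bf_comm, hv, mul_zero]
  rw [hb', h0, zero_smul, mu_neg_right, ← sub_eq_add_neg, sub_eq_zero] at h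
  rw [E.v_mul hb hv, h, E.map_mul, E.v_mul hb hv, ← E.map_mul, bar_mu]

theorem Emb.v_mul_v_mul (E : Emb (F := F) P m b) {v : Fin 8 → F} (hb : bar v = -v)
    (hv : ∀ a, bf v (E.f a) = 0) (hn : nm v = -1) (a c : P) :
    mu (mu v (E.f a)) (mu v (E.f c)) = mu (E.f c) (bar (E.f a)) := by
  rw [E.v_mul hb hv c, moufang, E.map_bar c, E.map_mul, E.v_mul hb hv]
  have h := right_alt v (bar (E.f (m a (b c))))
  rw [hb, mu_neg_right, mu_neg_left, hn, neg_one_smul, neg_inj] at h
  rw [h, ← E.map_mul, bar_mu, ← E.map_bar c, bar_bar]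

/-- The doubled embedding. -/
def Emb.double (E : Emb (F := F) P m b) (v : Fin 8 → F) (hb : bar v = -v)
    (hv : ∀ a, bf v (E.f a) = 0) (hn : nm v = -1) :
    Emb (F := F) (P × P) (dblMul m b) (dblBar b) where
  f :=
    { toFun := fun p => E.f p.1 + mu v (E.f p.2)
      map_add' := fun p q => by simp only [Prod.fst_add, Prod.snd_add, map_add, mu_add_right]; abel
      map_smul' := fun r p => by
        simp only [Prod.smul_fst, Prod.smul_snd, map_smul, mu_smul_right, RingHom.id_apply, smul_add] }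
  map_mul p q := by
    show mu (E.f p.1 + mu v (E.f p.2)) (E.f q.1 + mu v (E.f q.2)) =
      E.f (dblMul m b p q).1 + mu v (E.f (dblMul m b p q).2)
    rw [mu_add_left, mu_add_right, mu_add_right, E.swap hb hv, E.v_mul_mul hb hv,
      E.v_mul_v_mul hb hv hn]
    simp only [dblMul, map_add, ← E.map_mul, ← E.map_bar, mu_add_right]
    abel
  map_bar p := by
    show bar (E.f p.1 + mu v (E.f p.2)) = E.f (dblBar b p).1 + mu v (E.f (dblBar b p).2)
    simp only [dblBar, map_neg, mu_neg_right]
    rw [bar_add, bar_mu, hb, mu_neg_right, E.v_mul hb hv, E.map_bar]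
  nondeg p h := by
    have cross : ∀ a c, bf (mu v (E.f a)) (E.f c) = 0 := fun a c => by
      rw [bf_mu_left, E.map_bar, E.map_mul, hv]
    have h1 : p.1 = 0 := E.nondeg _ fun c => by
      have h' : bf (E.f p.1 + mu v (E.f p.2)) (E.f (c, (0 : P)).1 + mu v (E.f (c, (0 : P)).2)) = 0 :=
        h (c, 0)
      simp only [map_zero] at h'
      rw [show mu v (0 : Fin 8 → F) = 0 by funext i; fin_cases i <;> simp [mu_apply], add_zero,
        bf_add_left, cross, add_zero] at h'
      exact h'
    have h2 : p.2 = 0 := E.nondeg _ fun c => by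
      have h' : bf (E.f p.1 + mu v (E.f p.2)) (E.f ((0 : P), c).1 + mu v (E.f ((0 : P), c).2)) = 0 :=
        h (0, c)
      simp only [h1, map_zero, zero_add] at h'
      rw [bf_mu_mu, hn] at h'
      simpa using h'
    exact Prod.ext h1 h2

theorem Emb.double_apply (E : Emb (F := F) P m b) (v : Fin 8 → F) (hb : bar v = -v)
    (hv : ∀ a, bf v (E.f a) = 0) (hn : nm v = -1) (p : P × P) :
    (E.double v hb hv hn).f p = E.f p.1 + mu v (E.f p.2) := rfl

/-- The split two dimensional algebra. -/
abbrev P0 (F : Type*) := F × F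

/-- Its product. -/
def mul0 (p q : P0 F) : P0 F := (p.1 * q.1, p.2 * q.2)

/-- Its conjugation. -/
def bar0 (p : P0 F) : P0 F := (p.2, p.1)

theorem sq_of_imag {x : Fin 8 → F} (h1 : bf (e1 F) x = 0) (hn : nm x = -1) : mu x x = e1 F := by
  rw [bf_one] at h1
  rw [quadratic, h1, hn, zero_smul, zero_sub, neg_one_smul, neg_neg]

/-- The first embedding. -/
def emb0 (h2 : (2 : F) ≠ 0) (x : Fin 8 → F) (h1 : bf (e1 F) x = 0) (hn : nm x = -1) :
    Emb (F := F) (P0 F) mul0 bar0 where
  f :=
    { toFun := fun p => ((p.1 + p.2) / 2) • e1 F + ((p.1 - p.2) / 2) • x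
      map_add' := fun p q => by funext i; simp; field_simp; ring
      map_smul' := fun r p => by funext i; simp; field_simp }
  map_mul p q := by
    show mu (((p.1 + p.2) / 2) • e1 F + ((p.1 - p.2) / 2) • x)
        (((q.1 + q.2) / 2) • e1 F + ((q.1 - q.2) / 2) • x) =
      (((mul0 p q).1 + (mul0 p q).2) / 2) • e1 F + (((mul0 p q).1 - (mul0 p q).2) / 2) • x
    simp only [mu_add_left, mu_add_right, mu_smul_left, mu_smul_right, mu_one_left, mu_one_right,
      sq_of_imag h1 hn, smul_smul, mul0]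
    funext i; simp; field_simp; ring
  map_bar p := by
    show bar (((p.1 + p.2) / 2) • e1 F + ((p.1 - p.2) / 2) • x) =
      (((bar0 p).1 + (bar0 p).2) / 2) • e1 F + (((bar0 p).1 - (bar0 p).2) / 2) • x
    have hb1 : bar (e1 F) = e1 F := by funext i; fin_cases i <;> simp [bar, e1]
    rw [bar_add, bar_smul, bar_smul, hb1, bar_of_trace x h1, bar0]
    funext i; simp; field_simp; ring
  nondeg p h := by
    have key : ∀ q : P0 F, p.1 * q.2 + p.2 * q.1 = 0 := by
      intro q
      have h' : bf (((p.1 + p.2) / 2) • e1 F + ((p.1 - p.2) / 2) • x)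
        (((q.1 + q.2) / 2) • e1 F + ((q.1 - q.2) / 2) • x) = 0 := h q
      rw [bf_add_left, bf_add_right, bf_add_right] at h'
      simp only [bf_smul_left, bf_smul_right] at h'
      rw [bf_comm x (e1 F), h1, bf_self, bf_self, nm_one, hn] at h'
      field_simp at h'
      have h4 : (2 : F) ^ 2 * (p.1 * q.2 + p.2 * q.1) = 0 := by linear_combination h'
      exact (mul_eq_zero.1 h4).resolve_left (pow_ne_zero _ h2)
    exact Prod.ext (by simpa using key (0, 1)) (by simpa using key (1, 0))

/-- A triple of orthogonal imaginary elements of norm `-1`. -/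
structure Tri (F : Type*) [Field F] where
  x : Fin 8 → F
  y : Fin 8 → F
  v : Fin 8 → F
  x1 : bf (e1 F) x = 0
  xn : nm x = -1
  y1 : bf (e1 F) y = 0
  yx : bf x y = 0
  yn : nm y = -1
  v1 : bf (e1 F) v = 0
  vx : bf x v = 0
  vy : bf y v = 0
  vxy : bf (mu y x) v = 0
  vn : nm v = -1

/-- The quaternion level. -/
abbrev P1 (F : Type*) := P0 F × P0 F

/-- The octonion level. -/
abbrev P2 (F : Type*) := P1 F × P1 F

variable (h2 : (2 : F) ≠ 0) (T : Tri F)

theorem bf_emb0 (p : P0 F) (w : Fin 8 → F) (a : bf (e1 F) w = 0) (c : bf T.x w = 0) :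
    bf w ((emb0 h2 T.x T.x1 T.xn).f p) = 0 := by
  show bf w (((p.1 + p.2) / 2) • e1 F + ((p.1 - p.2) / 2) • T.x) = 0
  rw [bf_add_right, bf_smul_right, bf_smul_right, bf_comm w, bf_comm w, a, c]; ring

/-- The quaternion subalgebra of a triple. -/
def emb1 : Emb (F := F) (P1 F) (dblMul mul0 bar0) (dblBar bar0) :=
  (emb0 h2 T.x T.x1 T.xn).double T.y (bar_of_trace T.y T.y1)
    (fun p => bf_emb0 h2 T p T.y T.y1 T.yx) T.yn

theorem emb1_apply (p : P1 F) : (emb1 h2 T).f p =
    ((p.1.1 + p.1.2) / 2) • e1 F + ((p.1.1 - p.1.2) / 2) • T.x +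
      mu T.y (((p.2.1 + p.2.2) / 2) • e1 F + ((p.2.1 - p.2.2) / 2) • T.x) := rfl

theorem bf_emb1 (p : P1 F) : bf T.v ((emb1 h2 T).f p) = 0 := by
  rw [bf_comm]
  simp only [emb1_apply, mu_add_right, mu_smul_right, mu_one_right, bf_add_left, bf_smul_left,
    T.v1, T.vx, T.vy, T.vxy]
  ring

/-- The whole algebra from a triple. -/
def emb2 : Emb (F := F) (P2 F) (dblMul (dblMul mul0 bar0) (dblBar bar0)) (dblBar (dblBar bar0)) :=
  (emb1 h2 T).double T.v (bar_of_trace T.v T.v1) (bf_emb1 h2 T) T.vn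

theorem emb2_apply (p : P2 F) :
    (emb2 h2 T).f p = (emb1 h2 T).f p.1 + mu T.v ((emb1 h2 T).f p.2) := rfl

/-- The standard triple. -/
def std (F : Type*) [Field F] : Tri F where
  x := ![1, 0, 0, 0, 0, 0, 0, -1]
  y := ![0, 1, 0, 0, 1, 0, 0, 0]
  v := ![0, 0, 1, 0, 0, 1, 0, 0]
  x1 := by simp [bf, e1]
  xn := by simp [nm]
  y1 := by simp [bf, e1]
  yx := by simp [bf]
  yn := by simp [nm]
  v1 := by simp [bf, e1]
  vx := by simp [bf]
  vy := by simp [bf]
  vxy := by simp [bf, mu_apply]
  vn := by simp [nm]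

theorem emb2_bijective : Function.Bijective (emb2 h2 T).f := by
  refine ⟨(emb2 h2 T).injective, ?_⟩
  refine (LinearMap.injective_iff_surjective_of_finrank_eq_finrank ?_).1 (emb2 h2 T).injective
  simp

/-- The linear map of a triple. -/
noncomputable def triMap : (Fin 8 → F) ≃ₗ[F] (Fin 8 → F) :=
  (LinearEquiv.ofBijective _ (emb2_bijective h2 (std F))).symm.trans
    (LinearEquiv.ofBijective _ (emb2_bijective h2 T))

theorem triMap_apply (p : P2 F) : triMap h2 T ((emb2 h2 (std F)).f p) = (emb2 h2 T).f p := by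
  simp only [triMap, LinearEquiv.trans_apply]
  rw [show (LinearEquiv.ofBijective _ (emb2_bijective h2 (std F))).symm ((emb2 h2 (std F)).f p) = p from
    (LinearEquiv.ofBijective _ (emb2_bijective h2 (std F))).symm_apply_apply p]
  rfl

theorem triMap_mu (x y : Fin 8 → F) : triMap h2 T (mu x y) = mu (triMap h2 T x) (triMap h2 T y) := by
  obtain ⟨p, rfl⟩ := (emb2_bijective h2 (std F)).2 x
  obtain ⟨q, rfl⟩ := (emb2_bijective h2 (std F)).2 y
  rw [(emb2 h2 (std F)).map_mul, triMap_apply, triMap_apply, triMap_apply, (emb2 h2 T).map_mul]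

/-- The action of an automorphism. -/
def act (g : G2 F) (w : Fin 8 → F) : Fin 8 → F := ((g : GL (Fin 8) F) : Matrix (Fin 8) (Fin 8) F) *ᵥ w

/-- An automorphism from a multiplicative linear bijection. -/
noncomputable def autOfLin (e : (Fin 8 → F) ≃ₗ[F] (Fin 8 → F)) (h : ∀ x y, e (mu x y) = mu (e x) (e y)) :
    G2 F :=
  ⟨⟨LinearMap.toMatrix' e.toLinearMap, LinearMap.toMatrix' e.symm.toLinearMap,
      by rw [← LinearMap.toMatrix'_comp]; simp,
      by rw [← LinearMap.toMatrix'_comp]; simp⟩, by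
    intro x y
    simp only [Units.coeHom_apply, LinearMap.toMatrix'_mulVec]
    exact h x y⟩

theorem act_autOfLin (e : (Fin 8 → F) ≃ₗ[F] (Fin 8 → F)) (h : ∀ x y, e (mu x y) = mu (e x) (e y))
    (w : Fin 8 → F) : act (autOfLin e h) w = e w := by
  simp [act, autOfLin, LinearMap.toMatrix'_mulVec]

/-- The automorphism of a triple. -/
noncomputable def triAut : G2 F := autOfLin (triMap h2 T) (triMap_mu h2 T)

theorem act_triAut (p : P2 F) : act (triAut h2 T) ((emb2 h2 (std F)).f p) = (emb2 h2 T).f p := by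
  rw [triAut, act_autOfLin, triMap_apply]

theorem act_mu (g : G2 F) (x y : Fin 8 → F) : act g (mu x y) = mu (act g x) (act g y) := g.2 x y

theorem act_mul (g h : G2 F) (w : Fin 8 → F) : act (g * h) w = act g (act h w) := by
  simp [act, Matrix.mulVec_mulVec]

theorem act_one (w : Fin 8 → F) : act (1 : G2 F) w = w := by simp [act]

theorem act_ext {g h : G2 F} (e : ∀ w, act g w = act h w) : g = h := by
  refine Subtype.ext (Units.ext (Matrix.ext fun i j => ?_))
  have := congrFun (e (Pi.single j 1)) i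
  simpa [act, Matrix.mulVec_single_one] using this

theorem act_e1 (g : G2 F) : act g (e1 F) = e1 F := by
  have h : ∀ w, mu (act g (e1 F)) (act g w) = act g w := fun w => by rw [← act_mu, mu_one_left]
  have h' := h (act g⁻¹ (e1 F))
  rwa [← act_mul, mul_inv_cancel, act_one, mu_one_right] at h'

theorem act_add (g : G2 F) (x y : Fin 8 → F) : act g (x + y) = act g x + act g y :=
  Matrix.mulVec_add _ _ _

theorem act_smul (g : G2 F) (c : F) (x : Fin 8 → F) : act g (c • x) = c • act g x :=
  Matrix.mulVec_smul _ _ _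

theorem act_injective (g : G2 F) : Function.Injective (act g) := fun x y h => by
  rw [← act_one x, ← inv_mul_cancel g, act_mul, h, ← act_mul, inv_mul_cancel, act_one]

/-- Automorphisms keep the trace and the norm. -/
theorem act_invariants (g : G2 F) (x : Fin 8 → F) :
    (act g x) 0 + (act g x) 7 = x 0 + x 7 ∧ nm (act g x) = nm x := by
  by_cases hx : ∃ c : F, act g x = c • e1 F
  · obtain ⟨c, hc⟩ := hx
    have : x = c • e1 F := act_injective g (by rw [hc, act_smul, act_e1])
    subst this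
    rw [act_smul, act_e1]
    exact ⟨rfl, rfl⟩
  have h := congrArg (act g) (quadratic x)
  rw [act_mu, sub_eq_add_neg, act_add, act_smul, ← neg_smul, act_smul, act_e1, quadratic,
    neg_smul, ← sub_eq_add_neg] at h
  set s := (act g x) 0 + (act g x) 7 - (x 0 + x 7) with hs
  by_cases h0 : s = 0
  · have h00 : (act g x) 0 + (act g x) 7 = x 0 + x 7 := sub_eq_zero.1 (hs.symm.trans h0)
    refine ⟨h00, ?_⟩
    rw [h00, sub_right_inj] at h
    have := congrFun h 0
    simpa [e1] using this
  · refine absurd ⟨(nm (act g x) - nm x) / s, ?_⟩ hx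
    funext i
    have := congrFun h i
    simp only [Pi.sub_apply, Pi.smul_apply, smul_eq_mul] at this ⊢
    field_simp
    linear_combination this

theorem act_bf (g : G2 F) (x y : Fin 8 → F) : bf (act g x) (act g y) = bf x y := by
  have e : ∀ a c : Fin 8 → F, nm (a + c) = nm a + nm c + bf a c := by
    intro a c; simp [nm, bf]; ring
  have h := (act_invariants g (x + y)).2
  rw [act_add, e, e, (act_invariants g x).2, (act_invariants g y).2] at h
  linear_combination h

theorem act_bar (g : G2 F) (x : Fin 8 → F) : act g (bar x) = bar (act g x) := by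
  rw [bar_eq, bar_eq, sub_eq_add_neg, act_add, act_smul, act_e1, (act_invariants g x).1, sub_eq_add_neg,
    ← neg_one_smul F x, act_smul, neg_one_smul]

end Cfsg.Agent.KnownA.Octonion
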