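import Cfsg.Prelude.Def_G2
import Mathlib

/-!
Identities in Zorn's algebra of vector matrices.
-/

set_option autoImplicit false

namespace Cfsg.Agent.KnownA.Octonion

open Cfsg.Lie
open scoped Matrix

variable {F : Type*} [CommRing F]

/-- The unit. -/
def e1 (F : Type*) [CommRing F] : Fin 8 → F := ![1, 0, 0, 0, 0, 0, 0, 1]

/-- The conjugation. -/
def bar (x : Fin 8 → F) : Fin 8 → F := ![x 7, -x 1, -x 2, -x 3, -x 4, -x 5, -x 6, x 0]

/-- The norm. -/
def nm (x : Fin 8 → F) : F := x 0 * x 7 - x 1 * x 4 - x 2 * x 5 - x 3 * x 6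

/-- The polar form of the norm. -/
def bf (x y : Fin 8 → F) : F :=
  x 0 * y 7 + x 7 * y 0 - x 1 * y 4 - x 4 * y 1 - x 2 * y 5 - x 5 * y 2 - x 3 * y 6 - x 6 * y 3

/-- The product. -/
abbrev mu (x y : Fin 8 → F) : Fin 8 → F := zornMul x y



theorem mu_apply (x y : Fin 8 → F) : mu x y =
    ![x 0 * y 0 + (x 1 * y 4 + x 2 * y 5 + x 3 * y 6),
      x 0 * y 1 + y 7 * x 1 - (x 5 * y 6 - x 6 * y 5),
      x 0 * y 2 + y 7 * x 2 - (x 6 * y 4 - x 4 * y 6),
      x 0 * y 3 + y 7 * x 3 - (x 4 * y 5 - x 5 * y 4),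
      y 0 * x 4 + x 7 * y 4 + (x 2 * y 3 - x 3 * y 2),
      y 0 * x 5 + x 7 * y 5 + (x 3 * y 1 - x 1 * y 3),
      y 0 * x 6 + x 7 * y 6 + (x 1 * y 2 - x 2 * y 1),
      (x 4 * y 1 + x 5 * y 2 + x 6 * y 3) + x 7 * y 7] := by
  funext i
  fin_cases i <;> simp [mu, zornMul, zA, zB, dot3, cross3]

variable (x y z : Fin 8 → F) (c : F)

theorem mu_add_left : mu (x + y) z = mu x z + mu y z := by
  funext i; fin_cases i <;> simp [mu_apply] <;> ring
theorem mu_add_right : mu x (y + z) = mu x y + mu x z := by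
  funext i; fin_cases i <;> simp [mu_apply] <;> ring
theorem mu_smul_left : mu (c • x) y = c • mu x y := by
  funext i; fin_cases i <;> simp [mu_apply] <;> ring
theorem mu_smul_right : mu x (c • y) = c • mu x y := by
  funext i; fin_cases i <;> simp [mu_apply] <;> ring
theorem mu_neg_left : mu (-x) y = -mu x y := by
  funext i; fin_cases i <;> simp [mu_apply] <;> ring
theorem mu_neg_right : mu x (-y) = -mu x y := by
  funext i; fin_cases i <;> simp [mu_apply] <;> ring
theorem mu_one_left : mu (e1 F) x = x := by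
  funext i; fin_cases i <;> simp [mu_apply, e1]
theorem mu_one_right : mu x (e1 F) = x := by
  funext i; fin_cases i <;> simp [mu_apply, e1]
theorem bar_bar : bar (bar x) = x := by
  funext i; fin_cases i <;> simp [bar]
theorem bar_add : bar (x + y) = bar x + bar y := by
  funext i; fin_cases i <;> simp [bar, add_comm]
theorem bar_smul : bar (c • x) = c • bar x := by
  funext i; fin_cases i <;> simp [bar]
theorem bar_mu : bar (mu x y) = mu (bar y) (bar x) := by
  funext i; fin_cases i <;> simp [mu_apply, bar] <;> ring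
theorem bar_eq : bar x = (x 0 + x 7) • e1 F - x := by
  funext i; fin_cases i <;> simp [bar, e1]
theorem bf_comm : bf x y = bf y x := by simp [bf]; ring
theorem bf_add_left : bf (x + y) z = bf x z + bf y z := by simp [bf]; ring
theorem bf_smul_left : bf (c • x) y = c * bf x y := by simp [bf]; ring
theorem bf_add_right : bf x (y + z) = bf x y + bf x z := by simp [bf]; ring
theorem bf_smul_right : bf x (c • y) = c * bf x y := by simp [bf]; ring
theorem bf_self : bf x x = 2 * nm x := by simp [bf, nm]; ring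
theorem bf_one : bf (e1 F) x = x 0 + x 7 := by simp [bf, e1]; ring
theorem nm_one : nm (e1 F) = 1 := by simp [nm, e1]
theorem nm_bar : nm (bar x) = nm x := by simp [nm, bar]; ring
theorem nm_smul : nm (c • x) = c ^ 2 * nm x := by simp [nm]; ring
theorem nm_mu : nm (mu x y) = nm x * nm y := by simp [nm, mu_apply]; ring
theorem left_alt : mu x (mu (bar x) z) = nm x • z := by
  funext i; fin_cases i <;> simp [mu_apply, bar, nm] <;> ring
theorem right_alt : mu (mu z (bar x)) x = nm x • z := by
  funext i; fin_cases i <;> simp [mu_apply, bar, nm] <;> ring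
theorem left_alt_lin : mu x (mu (bar y) z) + mu y (mu (bar x) z) = bf x y • z := by
  funext i; fin_cases i <;> simp [mu_apply, bar, bf] <;> ring
theorem right_alt_lin : mu (mu z (bar y)) x + mu (mu z (bar x)) y = bf x y • z := by
  funext i; fin_cases i <;> simp [mu_apply, bar, bf] <;> ring
theorem moufang : mu (mu x y) (mu z x) = mu (mu x (mu y z)) x := by
  funext i; fin_cases i <;> simp [mu_apply] <;> ring
theorem bf_mu_left : bf (mu x y) z = bf x (mu z (bar y)) := by simp [bf, mu_apply, bar]; ring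
theorem bf_mu_mu : bf (mu x y) (mu x z) = nm x * bf y z := by simp [bf, nm, mu_apply]; ring
theorem quadratic : mu x x = (x 0 + x 7) • x - nm x • e1 F := by
  funext i; fin_cases i <;> simp [mu_apply, nm, e1] <;> ring

theorem bar_of_trace (h : bf (e1 F) x = 0) : bar x = -x := by
  rw [bf_one] at h; rw [bar_eq, h, zero_smul, zero_sub]

end Cfsg.Agent.KnownA.Octonion
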