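import Cfsg.Agent.Lib.KnownA.Octonion.Doubling
import Mathlib

/-!
All involutive automorphisms of the split octonions are conjugate.
-/

set_option autoImplicit false

namespace Cfsg.Agent.KnownA.Octonion

open Cfsg.Lie
open scoped Matrix

variable {F : Type*} [Field F]

theorem mu_zero_right (v : Fin 8 → F) : mu v 0 = 0 := by
  funext i; fin_cases i <;> simp [mu_apply]

theorem nm_add (a c : Fin 8 → F) : nm (a + c) = nm a + nm c + bf a c := by simp [nm, bf]; ring

theorem act_neg (g : G2 F) (x : Fin 8 → F) : act g (-x) = -act g x := by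
  rw [← neg_one_smul F x, act_smul, neg_one_smul]

theorem act_inj_std (h2 : (2 : F) ≠ 0) {g h : G2 F} (hx : act g (std F).x = act h (std F).x)
    (hy : act g (std F).y = act h (std F).y) (hv : act g (std F).v = act h (std F).v) : g = h := by
  refine act_ext fun w => ?_
  obtain ⟨p, rfl⟩ := (emb2_bijective h2 (std F)).2 w
  simp only [emb2_apply, emb1_apply, act_add, act_mu, act_smul, act_e1, hx, hy, hv]

/-- The triple with the last member negated. -/
def Tri.flip (T : Tri F) : Tri F :=
  { T with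
    v := -T.v
    v1 := by rw [← neg_one_smul F T.v, bf_smul_right, T.v1, mul_zero]
    vx := by rw [← neg_one_smul F T.v, bf_smul_right, T.vx, mul_zero]
    vy := by rw [← neg_one_smul F T.v, bf_smul_right, T.vy, mul_zero]
    vxy := by rw [← neg_one_smul F T.v, bf_smul_right, T.vxy, mul_zero]
    vn := by rw [← neg_one_smul F T.v, nm_smul, T.vn]; ring }

/-- The standard involution. -/
noncomputable def t0 (h2 : (2 : F) ≠ 0) : G2 F := triAut h2 (std F).flip

theorem emb2_flip (h2 : (2 : F) ≠ 0) (T : Tri F) (p : P2 F) :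
    (emb2 h2 T.flip).f p = (emb2 h2 T).f (p.1, -p.2) := by
  rw [emb2_apply, emb2_apply, map_neg, mu_neg_right]
  show (emb1 h2 T).f p.1 + mu (-T.v) ((emb1 h2 T).f p.2) = _
  rw [mu_neg_left]

theorem t0_sq (h2 : (2 : F) ≠ 0) : t0 h2 * t0 h2 = (1 : G2 F) := by
  refine act_ext fun w => ?_
  obtain ⟨p, rfl⟩ := (emb2_bijective h2 (std F)).2 w
  rw [act_mul, act_one, t0, act_triAut, emb2_flip, act_triAut, emb2_flip, neg_neg]

variable [Fintype F]

theorem fix_ne_span (h2 : (2 : F) ≠ 0) {z : G2 F} (hz : z * z = 1) {v0 : Fin 8 → F} (hv : act z v0 = -v0)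
    (hn : nm v0 ≠ 0) (hb : bar v0 = -v0) (i : Fin 8 → F) :
    ¬ ∀ p, act z p = p → ∃ a c : F, p = a • e1 F + c • i := by
  intro hfix
  have hsq : ∀ w, ∃ a c a' c' : F, w = a • e1 F + c • i + mu v0 (a' • e1 F + c' • i) := by
    intro w
    have hzz : act z (act z w) = w := by rw [← act_mul, hz, act_one]
    set m := (2 : F)⁻¹ • (w + (-act z w)) with hm
    obtain ⟨a, c, hp⟩ := hfix ((2 : F)⁻¹ • (w + act z w)) (by rw [act_smul, act_add, hzz, add_comm])
    have hzm : act z m = -m := by
      rw [hm, act_smul, act_add, act_neg, hzz, ← smul_neg]; congr 1; abel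
    obtain ⟨a', c', hq⟩ := hfix (mu v0 m) (by
      rw [act_mu, hv, hzm, mu_neg_left, mu_neg_right, neg_neg])
    refine ⟨a, c, -(nm v0)⁻¹ * a', -(nm v0)⁻¹ * c', ?_⟩
    have h1 := left_alt v0 m
    rw [hb, mu_neg_left, mu_neg_right, hq] at h1
    have h3 : m = (-(nm v0)⁻¹) • mu v0 (a' • e1 F + c' • i) := by
      rw [neg_smul, ← smul_neg, h1, smul_smul, inv_mul_cancel₀ hn, one_smul]
    have h4 : mu v0 ((-(nm v0)⁻¹ * a') • e1 F + (-(nm v0)⁻¹ * c') • i) =
        (-(nm v0)⁻¹) • mu v0 (a' • e1 F + c' • i) := by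
      rw [← mu_smul_right]; congr 1; simp [smul_add, smul_smul]
    rw [h4, ← h3, ← hp, hm]
    funext k; simp; field_simp; ring
  let f : (Fin 4 → F) → (Fin 8 → F) := fun a => a 0 • e1 F + a 1 • i + mu v0 (a 2 • e1 F + a 3 • i)
  have hf : Function.Surjective f := fun w => by
    obtain ⟨a, c, a', c', e⟩ := hsq w
    exact ⟨![a, c, a', c'], by simp [f, e]⟩
  have hc := Fintype.card_le_of_surjective f hf
  simp only [Fintype.card_fun, Fintype.card_fin] at hc
  have := (Nat.pow_le_pow_iff_right (Fintype.one_lt_card (α := F))).1 hc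
  omega

theorem exists_orth (h2 : (2 : F) ≠ 0) {z : G2 F} (hz : z * z = 1) {v0 : Fin 8 → F}
    (hv : act z v0 = -v0) (hn : nm v0 ≠ 0) (hb : bar v0 = -v0)
    {i : Fin 8 → F} (hzi : act z i = i) (hi1 : bf (e1 F) i = 0) (hi : i = 0 ∨ nm i ≠ 0) :
    ∃ w, act z w = w ∧ bf (e1 F) w = 0 ∧ bf i w = 0 ∧ nm w ≠ 0 := by
  by_contra! hcon
  refine fix_ne_span h2 hz hv hn hb i fun p hp => ?_
  let pr : (Fin 8 → F) → (Fin 8 → F) := fun p =>
    p + (-(bf (e1 F) p / 2)) • e1 F + (-(bf i p / (2 * nm i))) • i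
  have hpr : ∀ p, act z p = p → act z (pr p) = pr p ∧ bf (e1 F) (pr p) = 0 ∧ bf i (pr p) = 0 := by
    intro p hp
    refine ⟨by simp only [pr, act_add, act_smul, act_e1, hp, hzi], ?_, ?_⟩
    · simp only [pr, bf_add_right, bf_smul_right, bf_self, nm_one, hi1]; field_simp; ring
    · simp only [pr, bf_add_right, bf_smul_right, bf_comm i (e1 F), hi1, bf_self]
      rcases hi with rfl | hi
      · simp [bf_zero_left]
      · field_simp; ring
  obtain ⟨h0, h01, h0i⟩ := hpr p hp
  have hzero : pr p = 0 := by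
    refine eq_zero_of_bf fun w => ?_
    have hzz : act z (act z w) = w := by rw [← act_mul, hz, act_one]
    set wp := (2 : F)⁻¹ • (w + act z w) with hwp
    set wm := (2 : F)⁻¹ • (w + -act z w) with hwm
    have hzp : act z wp = wp := by rw [hwp, act_smul, act_add, hzz, add_comm]
    have hzm : act z wm = -wm := by
      rw [hwm, act_smul, act_add, act_neg, hzz, ← smul_neg]; congr 1; abel
    have hm0 : bf (pr p) wm = 0 := by
      have h := act_bf z (pr p) wm
      rw [h0, hzm, ← neg_one_smul F wm, bf_smul_right] at h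
      have : (2 : F) * bf (pr p) wm = 0 := by linear_combination -h
      exact (mul_eq_zero.1 this).resolve_left h2
    obtain ⟨hp0, hp01, hp0i⟩ := hpr wp hzp
    have hq : bf (pr p) (pr wp) = 0 := by
      have hs : act z (pr p + pr wp) = pr p + pr wp := by rw [act_add, h0, hp0]
      have h := hcon _ hs (by rw [bf_add_right, h01, hp01, add_zero])
        (by rw [bf_add_right, h0i, hp0i, add_zero])
      rwa [nm_add, hcon _ h0 h01 h0i, hcon _ hp0 hp01 hp0i, zero_add, zero_add] at h
    have hw : w = wp + wm := by rw [hwp, hwm]; funext k; simp; field_simp; ring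
    have hp' : bf (pr p) wp = 0 := by
      clear_value wp
      have he : pr wp = wp + (-(bf (e1 F) wp / 2)) • e1 F + (-(bf i wp / (2 * nm i))) • i := rfl
      rw [he, bf_add_right, bf_add_right, bf_smul_right, bf_smul_right, bf_comm (pr p) (e1 F), h01,
        bf_comm (pr p) i, h0i, mul_zero, mul_zero, add_zero, add_zero] at hq
      exact hq
    rw [hw, bf_add_right, hp', hm0, add_zero]
  refine ⟨bf (e1 F) p / 2, bf i p / (2 * nm i), ?_⟩
  have h := hzero
  simp only [pr] at h
  funext k
  have := congrFun h k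
  simp at this ⊢
  linear_combination this

theorem exists_neg (h2 : (2 : F) ≠ 0) {z : G2 F} (hz : z * z = 1) (hz1 : z ≠ 1) :
    ∃ v, act z v = -v ∧ nm v ≠ 0 := by
  by_contra! hcon
  refine hz1 (act_ext fun w => ?_)
  rw [act_one]
  have hzz : act z (act z w) = w := by rw [← act_mul, hz, act_one]
  have hm : act z (w + -act z w) = -(w + -act z w) := by rw [act_add, act_neg, hzz]; abel
  have h0 : w + -act z w = 0 := by
    refine eq_zero_of_bf fun u => ?_
    set m := w + -act z w with hmdef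
    have huu : act z (act z u) = u := by rw [← act_mul, hz, act_one]
    have hu : act z (u + -act z u) = -(u + -act z u) := by rw [act_add, act_neg, huu]; abel
    have hs := hcon (m + (u + -act z u)) (by rw [act_add, hm, hu]; abel)
    rw [nm_add, hcon _ hm, hcon _ hu, zero_add, zero_add] at hs
    have hp : bf m (u + act z u) = 0 := by
      have h := act_bf z m (u + act z u)
      rw [hm, act_add, huu, add_comm (act z u), ← neg_one_smul F m, bf_smul_left] at h
      have : (2 : F) * bf m (u + act z u) = 0 := by linear_combination -h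
      exact (mul_eq_zero.1 this).resolve_left h2
    rw [← neg_one_smul F (act z u), bf_add_right, bf_smul_right] at hs
    rw [bf_add_right] at hp
    have : (2 : F) * bf m u = 0 := by linear_combination hs + hp
    exact (mul_eq_zero.1 this).resolve_left h2
  exact (eq_of_sub_eq_zero (a := w) (b := act z w) (by rwa [sub_eq_add_neg])).symm

theorem invol_conj_t0 (h2 : (2 : F) ≠ 0) (hodd : Fintype.card F % 2 = 1) {z : G2 F} (hz : z * z = 1)
    (hz1 : z ≠ 1) : ∃ g : G2 F, g⁻¹ * z * g = t0 h2 := by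
  obtain ⟨v0, hv, hn⟩ := exists_neg h2 hz hz1
  have hperp : ∀ p, act z p = p → bf v0 p = 0 := by
    intro p hp
    have h := act_bf z v0 p
    rw [hv, hp, ← neg_one_smul F v0, bf_smul_left] at h
    have : (2 : F) * bf v0 p = 0 := by linear_combination -h
    exact (mul_eq_zero.1 this).resolve_left h2
  have hb : bar v0 = -v0 := bar_of_trace _ (by rw [bf_comm]; exact hperp _ (act_e1 z))
  have hz0 : act z 0 = (0 : Fin 8 → F) := by rw [← zero_smul F (e1 F), act_smul, act_e1]
  have hbz : ∀ x : Fin 8 → F, bf x 0 = 0 := fun x => by rw [bf_comm, bf_zero_left]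
  obtain ⟨i, hi, hi1, -, hin⟩ := exists_orth h2 hz hv hn hb hz0 (hbz _) (Or.inl rfl)
  obtain ⟨j, hj, hj1, hij, hjn⟩ := exists_orth h2 hz hv hn hb hi hi1 (Or.inr hin)
  obtain ⟨a, c, hac⟩ := FiniteField.exists_root_sum_quadratic (R := F)
    (f := Polynomial.C (nm i) * Polynomial.X ^ 2) (g := Polynomial.C (nm j) * Polynomial.X ^ 2 + Polynomial.C 1)
    (by rw [Polynomial.degree_C_mul_X_pow 2 hin]; rfl) (by
      rw [Polynomial.degree_add_eq_left_of_degree_lt]
      · rw [Polynomial.degree_C_mul_X_pow 2 hjn]; rfl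
      · rw [Polynomial.degree_C_mul_X_pow 2 hjn, Polynomial.degree_C one_ne_zero]
        decide) hodd
  simp at hac
  set x := a • i + c • j with hx
  have x1 : bf (e1 F) x = 0 := by simp [hx, bf_add_right, bf_smul_right, hi1, hj1]
  have xn : nm x = -1 := by
    rw [hx, nm_add, nm_smul, nm_smul, bf_smul_left, bf_smul_right, hij]
    linear_combination hac
  have hxz : act z x = x := by rw [hx, act_add, act_smul, act_smul, hi, hj]
  obtain ⟨y0, hy0, hy1, hyx, hyn⟩ := exists_orth h2 hz hv hn hb hxz x1 (Or.inr (by rw [xn]; simp))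
  -- rescale inside `span (1, x)`
  have hh : ∀ d : F, d ≠ 0 → ∃ k, act z k = k ∧ nm k = d ∧ ∃ s t : F, bar k = s • e1 F + t • x := by
    intro d hd
    refine ⟨((1 + d) / 2) • e1 F + ((1 - d) / 2) • x, ?_, ?_, (1 + d) / 2, -((1 - d) / 2), ?_⟩
    · rw [act_add, act_smul, act_smul, act_e1, hxz]
    · rw [nm_add, nm_smul, nm_smul, nm_one, xn, bf_smul_left, bf_smul_right, x1]; field_simp; ring
    · rw [bar_add, bar_smul, bar_smul, bar_of_trace x x1, smul_neg, neg_smul,
        show bar (e1 F) = e1 F by funext k; fin_cases k <;> simp [bar, e1]]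
  obtain ⟨k, hk, hkn, s, t, hkb⟩ := hh (-1 / nm y0) (div_ne_zero (neg_ne_zero.2 one_ne_zero) hyn)
  set y := mu y0 k with hy
  have hbfy : ∀ w, bf w y = bf y0 (mu w (bar k)) := fun w => by rw [hy, bf_comm, bf_mu_left]
  have y1' : bf (e1 F) y = 0 := by
    rw [hbfy, mu_one_left, hkb, bf_add_right, bf_smul_right, bf_smul_right, bf_comm y0, bf_comm y0,
      hy1, hyx]; ring
  have yx' : bf x y = 0 := by
    rw [hbfy, hkb, mu_add_right, mu_smul_right, mu_smul_right, mu_one_right, sq_of_imag x1 xn,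
      bf_add_right, bf_smul_right, bf_smul_right, bf_comm y0, bf_comm y0, hy1, hyx]; ring
  have yn' : nm y = -1 := by rw [hy, nm_mu, hkn]; field_simp
  have hyz : act z y = y := by rw [hy, act_mu, hy0, hk]
  obtain ⟨l, hl, hln, -⟩ := hh (-1 / nm v0) (div_ne_zero (neg_ne_zero.2 one_ne_zero) hn)
  set v := mu v0 l with hvdef
  have hzv : act z v = -v := by rw [hvdef, act_mu, hv, hl, mu_neg_left]
  have hfixv : ∀ w, act z w = w → bf w v = 0 := by
    intro w hw
    rw [hvdef, bf_comm, bf_mu_left]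
    exact hperp _ (by rw [act_mu, hw, act_bar, hl])
  let T : Tri F :=
    { x := x, y := y, v := v, x1 := x1, xn := xn, y1 := y1', yx := yx', yn := yn'
      v1 := hfixv _ (act_e1 z), vx := hfixv _ hxz, vy := hfixv _ hyz
      vxy := hfixv _ (by rw [act_mu, hyz, hxz])
      vn := by rw [hvdef, nm_mu, hln]; field_simp }
  refine ⟨triAut h2 T, ?_⟩
  rw [mul_assoc, inv_mul_eq_iff_eq_mul]
  refine act_ext fun w => ?_
  obtain ⟨p, rfl⟩ := (emb2_bijective h2 (std F)).2 w
  rw [act_mul, act_mul, act_triAut, t0, act_triAut, emb2_flip, act_triAut]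
  have h1 : act z ((emb1 h2 T).f p.1) = (emb1 h2 T).f p.1 ∧ act z ((emb1 h2 T).f p.2) = (emb1 h2 T).f p.2 := by
    constructor <;> simp only [emb1_apply, act_add, act_smul, act_mu, act_e1, T, hxz, hyz]
  rw [emb2_apply, emb2_apply, act_add, act_mu, h1.1, h1.2, map_neg, mu_neg_right,
    show act z T.v = -T.v from hzv, mu_neg_left]

end Cfsg.Agent.KnownA.Octonion
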