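import Cfsg.Agent.Lib.KnownA.Octonion.Cent
import Cfsg.Agent.Lib.FusionControl.SquaresSL
import Cfsg.Agent.Lib.FusionControl.MonomialSylow
import Mathlib

/-!
The squares of a Sylow 2-subgroup of the octonion automorphisms are commutators.
-/

set_option autoImplicit false

namespace Cfsg.Agent.KnownA.Octonion

open Cfsg.Lie
open Matrix
open scoped commutatorElement
open Cfsg.Agent.Lib.FusionControl
open Cfsg.Agent.Lib.FusionControl.WreathSquares

variable {F : Type*} [Field F]

theorem det_val (g : GL (Fin 2) F) :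
    ((GeneralLinearGroup.det g : Fˣ) : F) = (g : Matrix (Fin 2) (Fin 2) F).det := rfl

/-- The diagonal pairs. -/
def diagPair : GL (Fin 2) F →* eqDet F :=
  ((MonoidHom.id _).prod (MonoidHom.id _)).codRestrict (eqDet F) fun _ => mem_eqDet.2 rfl

/-- The pairs with trivial first entry. -/
def sndPair : SpecialLinearGroup (Fin 2) F →* eqDet F :=
  ((1 : SpecialLinearGroup (Fin 2) F →* GL (Fin 2) F).prod SpecialLinearGroup.toGL).codRestrict (eqDet F)
    fun s => mem_eqDet.2 (by simp [s.2])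

/-- The pairs inside a subgroup. -/
def pairsIn (R : Subgroup (GL (Fin 2) F)) : Subgroup (eqDet F) := (R.prod R).comap (eqDet F).subtype

theorem diagPair_mem {R : Subgroup (GL (Fin 2) F)} {g : GL (Fin 2) F} (h : g ∈ R) :
    diagPair g ∈ pairsIn R := ⟨h, h⟩

variable [Fintype F]

theorem sqInDerived_image (ho : Odd (Fintype.card F)) (R : Sylow 2 (GL (Fin 2) F))
    (D : Set (GL (Fin 2) F)) (hD : D ⊆ (R : Subgroup (GL (Fin 2) F)))
    (hgen : (R : Subgroup (GL (Fin 2) F)) ≤ Subgroup.closure D)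
    (hsq : ∀ g ∈ D, psi (diagPair g) ^ 2 ∈
      ⁅(pairsIn (R : Subgroup (GL (Fin 2) F))).map psi, (pairsIn (R : Subgroup (GL (Fin 2) F))).map psi⁆) :
    SqInDerived ((pairsIn (R : Subgroup (GL (Fin 2) F))).map psi : Subgroup (G2 F)) := by
  have hT := BlockDiag.sqInDerived_R_inf ho R
  set T := (R : Subgroup (GL (Fin 2) F)).comap
    (SpecialLinearGroup.toGL : SpecialLinearGroup (Fin 2) F →* GL (Fin 2) F) with hTdef
  set P : Subgroup (G2 F) := (pairsIn (R : Subgroup (GL (Fin 2) F))).map psi with hP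
  have hsnd : T.map ((psi (F := F)).comp sndPair) ≤ P := by
    rintro _ ⟨t, ht, rfl⟩
    exact ⟨sndPair t, ⟨one_mem _, ht⟩, rfl⟩
  refine sqInDerived_of_gen P ((fun g => psi (diagPair g)) '' D ∪ (psi (F := F)).comp sndPair '' T) ?_ ?_ ?_
  · rintro _ ⟨p, ⟨hp1, hp2⟩, rfl⟩
    have hd : GeneralLinearGroup.det (p.1.1⁻¹ * p.1.2) = 1 := by
      rw [map_mul, map_inv, show GeneralLinearGroup.det p.1.2 = GeneralLinearGroup.det p.1.1 from
        Units.ext (by rw [det_val, det_val]; exact (mem_eqDet.1 p.2).symm), inv_mul_cancel]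
    obtain ⟨t, ht, hte⟩ := BlockDiag.det_one_mem R (mul_mem (inv_mem hp1) hp2) hd
    have e : p = diagPair p.1.1 * sndPair t := by
      refine Subtype.ext (Prod.ext ?_ ?_)
      · simp [diagPair, sndPair]
      · show p.1.2 = p.1.1 * SpecialLinearGroup.toGL t
        rw [hte]
        exact (mul_inv_cancel_left _ _).symm
    rw [e, map_mul]
    refine mul_mem ?_ (Subgroup.subset_closure (Or.inr ⟨t, ht, rfl⟩))
    have hle : (R : Subgroup (GL (Fin 2) F)) ≤
        (Subgroup.closure ((fun g => psi (diagPair g)) '' D ∪ (psi (F := F)).comp sndPair '' T)).comap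
          ((psi (F := F)).comp diagPair) := by
      refine hgen.trans ((Subgroup.closure_le _).2 fun g hg => ?_)
      exact Subgroup.subset_closure (Or.inl ⟨g, hg, rfl⟩)
    exact hle hp1
  · rintro _ (⟨g, hg, rfl⟩ | ⟨t, ht, rfl⟩)
    · exact ⟨_, diagPair_mem (hD hg), rfl⟩
    · exact hsnd ⟨t, ht, rfl⟩
  · rintro _ (⟨g, hg, rfl⟩ | ⟨t, ht, rfl⟩)
    · exact hsq g hg
    · exact sq_mem_of_map hT _ hsnd ht

theorem exists_sylow_sq (ho : Odd (Fintype.card F)) :
    ∃ R : Sylow 2 (GL (Fin 2) F),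
      SqInDerived ((pairsIn (R : Subgroup (GL (Fin 2) F))).map psi : Subgroup (G2 F)) := by
  have hdiag : ∀ R : Subgroup (GL (Fin 2) F), R.map ((psi (F := F)).comp diagPair) ≤ (pairsIn R).map psi := by
    rintro R _ ⟨g, hg, rfl⟩
    exact ⟨_, diagPair_mem hg, rfl⟩
  have hq1 := Fintype.one_lt_card (α := F)
  rcases Nat.odd_mod_four_iff.1 (Nat.odd_iff.1 ho) with hm | hm
  · -- the monomial subgroup
    have : Fact (Nat.Prime 2) := ⟨Nat.prime_two⟩
    let T : Sylow 2 Fˣ := default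
    let W : Sylow 2 (Equiv.Perm (Fin 2)) := default
    obtain ⟨R, hR⟩ := MonomialSylow.exists_sylow_mono (n := 2) hm T W
    refine ⟨R, ?_⟩
    have hW : (W : Subgroup (Equiv.Perm (Fin 2))) = ⊤ := by
      refine Subgroup.eq_top_of_card_eq _ ?_
      rw [W.card_eq_multiplicity, Nat.card_perm, Nat.card_eq_fintype_card, Fintype.card_fin]
      simp [Nat.Prime.factorization_self Nat.prime_two]
    set Rs := (R : Subgroup (GL (Fin 2) F)) with hRs
    have hdgmem : ∀ v : Fin 2 → Fˣ, (∀ i, v i ∈ (T : Subgroup Fˣ)) → MonomialSylow.dg v ∈ Rs := fun v hv => by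
      rw [hR]; exact Subgroup.mem_sup_left ⟨v, fun i _ => hv i, rfl⟩
    have hpgmem : ∀ σ : Equiv.Perm (Fin 2), MonomialSylow.pg σ ∈ Rs := fun σ => by
      rw [hR]; exact Subgroup.mem_sup_right ⟨σ, by rw [hW]; trivial, rfl⟩
    refine sqInDerived_image ho R
      (MonomialSylow.dg '' {v | ∀ i, v i ∈ (T : Subgroup Fˣ)} ∪ Set.range MonomialSylow.pg) ?_ ?_ ?_
    · rintro _ (⟨v, hv, rfl⟩ | ⟨σ, rfl⟩)
      exacts [hdgmem v hv, hpgmem σ]
    · rw [← hRs, hR, wreath, sup_le_iff]
      constructor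
      · rintro _ ⟨v, hv, rfl⟩
        exact Subgroup.subset_closure (Or.inl ⟨v, fun i => hv i trivial, rfl⟩)
      · rintro _ ⟨σ, -, rfl⟩
        exact Subgroup.subset_closure (Or.inr ⟨σ, rfl⟩)
    · rintro _ (⟨v, hv, rfl⟩ | ⟨σ, rfl⟩)
      · set s : Equiv.Perm (Fin 2) := Equiv.swap 0 1 with hs
        have e : MonomialSylow.dg v ^ 2 = MonomialSylow.dg (fun _ => v 0 * v 1) *
            ⁅MonomialSylow.dg v, MonomialSylow.pg s⁆ := by
          rw [commutatorElement_def,
            show MonomialSylow.dg v * MonomialSylow.pg s * (MonomialSylow.dg v)⁻¹ * (MonomialSylow.pg s)⁻¹ =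
              MonomialSylow.dg v * (MonomialSylow.pg s * (MonomialSylow.dg v⁻¹) * (MonomialSylow.pg s)⁻¹) by
                rw [map_inv]; simp only [mul_assoc],
            MonomialSylow.pg_conj, ← map_mul, ← map_mul, ← map_pow]
          congr 1
          funext i
          refine Units.ext ?_
          fin_cases i <;> simp [hs, pow_two] <;> field_simp
        rw [← map_pow, ← map_pow, e, map_mul, map_mul]
        refine mul_mem ?_ ?_
        · have hsc : ((MonomialSylow.dg fun _ : Fin 2 => v 0 * v 1 : GL (Fin 2) F) : Matrix (Fin 2) (Fin 2) F) =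
              ((v 0 * v 1 : Fˣ) : F) • 1 := by
            rw [MonomialSylow.coe_dg, ← Matrix.diagonal_one, ← Matrix.diagonal_smul]
            congr 1; funext i; simp
          rw [psi_scalar (diagPair (MonomialSylow.dg fun _ : Fin 2 => v 0 * v 1)) (c := v 0 * v 1) hsc rfl]
          exact one_mem _
        · rw [map_commutatorElement, map_commutatorElement]
          exact Subgroup.commutator_mem_commutator (hdiag Rs ⟨_, hdgmem v hv, rfl⟩)
            (hdiag Rs ⟨_, hpgmem s, rfl⟩)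
      · rw [← map_pow, ← map_pow, ← map_pow,
          show σ ^ 2 = 1 by revert σ; decide,
          map_one, map_one, map_one]
        exact one_mem _
  · obtain ⟨R, hd⟩ := BlockDiag.exists_sylow_refl (F := F)
    refine ⟨R, sqInDerived_image ho R (R : Subgroup (GL (Fin 2) F)) subset_rfl (fun g hg => Subgroup.subset_closure hg)
      fun g hg => ?_⟩
    exact sq_mem_of_map (BlockDiag.sqInDerived_GL2 ho (by omega) R hd) ((psi (F := F)).comp diagPair)
      (hdiag _) hg

/-- Pairs inside a Sylow subgroup form a Sylow subgroup. -/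
theorem exists_sylow_pairs (R : Sylow 2 (GL (Fin 2) F)) :
    ∃ Q : Sylow 2 (eqDet F), (Q : Subgroup (eqDet F)) = pairsIn (R : Subgroup (GL (Fin 2) F)) := by
  have : Fact (Nat.Prime 2) := ⟨Nat.prime_two⟩
  have hp : IsPGroup 2 (pairsIn (R : Subgroup (GL (Fin 2) F))) := by
    refine IsPGroup.comap_of_injective ?_ (eqDet F).subtype Subtype.val_injective
    rintro ⟨⟨a, b⟩, ha, hb⟩
    obtain ⟨k, hk⟩ := R.2 ⟨a, ha⟩
    obtain ⟨l, hl⟩ := R.2 ⟨b, hb⟩
    have hk' : a ^ 2 ^ k = 1 := congrArg Subtype.val hk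
    have hl' : b ^ 2 ^ l = 1 := congrArg Subtype.val hl
    refine ⟨k + l, Subtype.ext (Prod.ext ?_ ?_)⟩
    · show a ^ 2 ^ (k + l) = 1
      rw [pow_add, pow_mul, hk', one_pow]
    · show b ^ 2 ^ (k + l) = 1
      rw [add_comm, pow_add, pow_mul, hl', one_pow]
  obtain ⟨Q, hQ⟩ := hp.exists_le_sylow
  refine ⟨Q, le_antisymm ?_ hQ⟩
  -- a larger subgroup would give a larger subgroup of pairs
  have hn : (eqDet F).Normal := by rw [eqDet]; infer_instance
  obtain ⟨a, ha⟩ : ∃ a, ∀ x ∈ (Q : Subgroup (eqDet F)), a⁻¹ * x.1.1 * a ∈ (R : Subgroup (GL (Fin 2) F)) := by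
    have hA : IsPGroup 2 ((Q : Subgroup (eqDet F)).map ((MonoidHom.fst _ _).comp (eqDet F).subtype)) := Q.2.map _
    obtain ⟨S, hS⟩ := hA.exists_le_sylow
    obtain ⟨a, rfl⟩ := MulAction.exists_smul_eq (GL (Fin 2) F) R S
    refine ⟨a, fun x hx => ?_⟩
    have := hS ⟨x, hx, rfl⟩
    rw [Sylow.coe_subgroup_smul, Subgroup.mem_pointwise_smul_iff_inv_smul_mem] at this
    simpa using this
  obtain ⟨b, hb⟩ : ∃ b, ∀ x ∈ (Q : Subgroup (eqDet F)), b⁻¹ * x.1.2 * b ∈ (R : Subgroup (GL (Fin 2) F)) := by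
    have hA : IsPGroup 2 ((Q : Subgroup (eqDet F)).map ((MonoidHom.snd _ _).comp (eqDet F).subtype)) := Q.2.map _
    obtain ⟨S, hS⟩ := hA.exists_le_sylow
    obtain ⟨a, rfl⟩ := MulAction.exists_smul_eq (GL (Fin 2) F) R S
    refine ⟨a, fun x hx => ?_⟩
    have := hS ⟨x, hx, rfl⟩
    rw [Sylow.coe_subgroup_smul, Subgroup.mem_pointwise_smul_iff_inv_smul_mem] at this
    simpa using this
  have hle : Nat.card (Q : Subgroup (eqDet F)) ≤ Nat.card (pairsIn (R : Subgroup (GL (Fin 2) F))) := by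
    refine Nat.card_le_card_of_injective (fun x => ⟨⟨(a, b)⁻¹ * x.1.1 * (a, b),
      by simpa using hn.conj_mem _ x.1.2 (a, b)⁻¹⟩, ha _ x.2, hb _ x.2⟩) ?_
    intro x y h
    have h' := congrArg (fun z => z.1.1) h
    simp only [mul_left_inj, mul_right_inj] at h'
    exact Subtype.ext (Subtype.ext h')
  exact (Subgroup.eq_of_le_of_card_ge hQ hle).ge

/-- Squares in a Sylow 2-subgroup are commutators. -/
theorem g2_sqInDerived (ho : Odd (Fintype.card F)) (P : Sylow 2 (G2 F)) :
    SqInDerived (P : Subgroup (G2 F)) := by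
  have : Fact (Nat.Prime 2) := ⟨Nat.prime_two⟩
  have h2 : (2 : F) ≠ 0 := BlockDiag.odd_ne_two ho
  have : Finite (G2 F) := Subtype.finite
  have hdvd : 2 ∣ Nat.card (G2 F) := by
    rw [← orderOf_eq_prime (p := 2) (show t0 h2 ^ 2 = 1 by rw [pow_two, t0_sq]) (t0_ne_one h2)]
    exact orderOf_dvd_natCard _
  have hne : Nontrivial (P : Subgroup (G2 F)) := by
    rw [← Finite.one_lt_card_iff_nontrivial, P.card_eq_multiplicity]
    exact one_lt_pow₀ (by norm_num) (Nat.Prime.factorization_pos_of_dvd Nat.prime_two Nat.card_pos.ne' hdvd).ne'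
  have hzc := P.2.center_nontrivial
  obtain ⟨k, hkpos, hk⟩ := (IsPGroup.nontrivial_iff_card (P.2.to_subgroup (Subgroup.center _))).1 hzc
  obtain ⟨z, hz⟩ := exists_prime_orderOf_dvd_card' (G := Subgroup.center (P : Subgroup (G2 F))) 2
    (hk ▸ dvd_pow_self 2 (by omega))
  have hzz : ((z : (P : Subgroup (G2 F))) : G2 F) * ((z : (P : Subgroup (G2 F))) : G2 F) = 1 := by
    have := pow_orderOf_eq_one z
    rw [hz, pow_two] at this
    exact congrArg (fun w : Subgroup.center (P : Subgroup (G2 F)) => ((w : (P : Subgroup (G2 F))) : G2 F)) this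
  have hz1 : ((z : (P : Subgroup (G2 F))) : G2 F) ≠ 1 := fun h => by
    have hz1' : z = 1 := Subtype.ext (Subtype.ext h)
    simp [hz1'] at hz
  obtain ⟨g, hg⟩ := invol_conj_t0 h2 (Nat.odd_iff.1 ho) hzz hz1
  have hle : ((g⁻¹ • P : Sylow 2 (G2 F)) : Subgroup (G2 F)) ≤ (psi (F := F)).range := by
    intro x hx
    refine mem_range_psi h2 ?_
    rw [Sylow.coe_subgroup_smul, Subgroup.mem_pointwise_smul_iff_inv_smul_mem] at hx
    simp only [MulAut.smul_def, map_inv, inv_inv, MulAut.conj_apply] at hx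
    have hcomm := congrArg Subtype.val (Subgroup.mem_center_iff.1 z.2 ⟨_, hx⟩)
    simp only [Subgroup.coe_mul] at hcomm
    rw [← hg]
    calc g⁻¹ * ((z : (P : Subgroup (G2 F))) : G2 F) * g * x
        = g⁻¹ * (((z : (P : Subgroup (G2 F))) : G2 F) * (g * x * g⁻¹)) * g := by group
      _ = g⁻¹ * (g * x * g⁻¹ * ((z : (P : Subgroup (G2 F))) : G2 F)) * g := by rw [hcomm]
      _ = x * (g⁻¹ * ((z : (P : Subgroup (G2 F))) : G2 F) * g) := by group
  obtain ⟨R, hR⟩ := exists_sylow_sq ho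
  obtain ⟨Q, hQ⟩ := exists_sylow_pairs R
  set Q' := Q.mapSurjective (psi (F := F)).rangeRestrict_surjective with hQ'
  have h1 : SqInDerived ((Q' : Subgroup (psi (F := F)).range).map (psi (F := F)).range.subtype) := by
    have e : (Q' : Subgroup (psi (F := F)).range).map (psi (F := F)).range.subtype =
        (pairsIn (R : Subgroup (GL (Fin 2) F))).map psi := by
      rw [hQ', Sylow.coe_mapSurjective, hQ, Subgroup.map_map]; rfl
    rw [e]; exact hR
  have h2' : SqInDerived (Q' : Subgroup (psi (F := F)).range) :=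
    sqInDerived_of_equiv (Subgroup.equivMapOfInjective _ _ Subtype.val_injective).symm h1
  have h3 := sqInDerived_of_sylow Q' ((g⁻¹ • P).subtype hle) h2'
  have h4 : SqInDerived ((g⁻¹ • P : Sylow 2 (G2 F)) : Subgroup (G2 F)) :=
    sqInDerived_of_equiv (Subgroup.subgroupOfEquivOfLe hle) h3
  exact sqInDerived_of_sylow (g⁻¹ • P) P h4

end Cfsg.Agent.KnownA.Octonion
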